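import Groth.Agent.FlatOverBC.Free
import Groth.Agent.ProjLocal.Basic
import Groth.Agent.QCohBase.FinitePresentation
import Groth.Agent.TensorMod.FinLocFree

/-!
# Finite locally free modules and their sections over affine opens
-/

set_option autoImplicit false
set_option backward.isDefEq.respectTransparency.types false

noncomputable section

universe u

open CategoryTheory AlgebraicGeometry Opposite TopologicalSpace
open Groth.Agent.QCohBase

namespace Groth.Agent.FinLocFreeSections

variable {X : Scheme.{u}}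

/-- A module free on an affine open has free sections there. -/
theorem free_sections (M : X.Modules) {W : X.Opens} (hW : IsAffineOpen W) {n : ℕ}
    (t : M.restrict W.ι ≅ FlatMod.freeMod (W : Scheme.{u}) n) :
    Module.Free Γ(X, W) Γ(M, W) := by
  let e₁ : M.restrict hW.fromSpec ≅ tilde (ModuleCat.of Γ(X, W) (ULift.{u} (Fin n) →₀ Γ(X, W))) :=
    ((Scheme.Modules.restrictFunctorCongr hW.isoSpec_inv_ι.symm) ≪≫
        Scheme.Modules.restrictFunctorComp hW.isoSpec.inv W.ι).app M ≪≫
      (Scheme.Modules.restrictFunctor hW.isoSpec.inv).mapIso t ≪≫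
      TensorMod.restrictFreeModIso hW.isoSpec.inv n ≪≫ TensorMod.freeModIso _ n ≪≫
      (tildeFinsupp _).symm
  exact Module.Free.of_equiv
    (((tilde.isoTop _).toLinearEquiv.trans
      ((moduleSpecΓFunctor (R := Γ(X, W))).mapIso e₁).symm.toLinearEquiv).trans (sectionsEquiv M hW))

/-- Finite locally free modules have finite projective sections on affine opens. -/
theorem finite_projective_sections (M : X.Modules) (h : FlatMod.IsFinLocFree M) {V : X.Opens}
    (hV : IsAffineOpen V) :
    Module.Finite Γ(X, V) Γ(M, V) ∧ Module.Projective Γ(X, V) Γ(M, V) := by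
  have hc := TensorMod.isCoh_of_isFinLocFree h
  haveI : M.IsQuasicoherent := hc.1
  refine ⟨finite_sections M hc.2 hV, ProjLocal.projective_of_cover M (fun x => ?_) hV⟩
  obtain ⟨U, n, hx, ⟨t⟩⟩ := h x
  obtain ⟨_, ⟨W, hW, rfl⟩, hxW, hWU⟩ := X.isBasis_affineOpens.exists_subset_of_mem_open hx U.isOpen
  haveI := free_sections M hW (TensorMod.freeRestrict hWU t)
  exact ⟨W, hW, hxW, inferInstance⟩

/-- Flat sections on an affine give flat stalks. -/
theorem flat_stalk_of_flat_sections (M : X.Modules) [M.IsQuasicoherent] {U : X.Opens}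
    (hU : IsAffineOpen U) [Module.Flat Γ(X, U) Γ(M, U)] {x : X} (hx : x ∈ U) :
    Module.Flat (X.presheaf.stalk x) (M.presheaf.stalk x) := by
  letI := FlatOver.germModule M x hx
  letI : Algebra Γ(X, U) (X.presheaf.stalk x) := (X.presheaf.germ U x hx).hom.toAlgebra
  haveI : IsLocalization.AtPrime (X.presheaf.stalk x) (hU.primeIdealOf ⟨x, hx⟩).asIdeal :=
    hU.isLocalization_stalk ⟨x, hx⟩
  haveI : IsScalarTower Γ(X, U) (X.presheaf.stalk x) (M.presheaf.stalk x) :=
    .of_algebraMap_smul fun r z => rfl
  haveI := FlatOver.isLocalizedModule_germₗ M hU x hx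
  exact Module.Flat.of_isLocalizedModule (X.presheaf.stalk x)
    (hU.primeIdealOf ⟨x, hx⟩).asIdeal.primeCompl (FlatOver.germₗ M x hx)

/-- Finite projective sections on an affine cover give a finite locally free module. -/
theorem isFinLocFree_of_affine (M : X.Modules) [M.IsQuasicoherent]
    (h : ∀ x : X, ∃ U : X.Opens, IsAffineOpen U ∧ x ∈ U ∧
      Module.Finite Γ(X, U) Γ(M, U) ∧ Module.Projective Γ(X, U) Γ(M, U)) :
    FlatMod.IsFinLocFree M := by
  have hFP : CohB1.IsFP M := isFinitePresentation_of_affine M fun x => by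
    obtain ⟨U, hU, hx, hf, hp⟩ := h x
    exact ⟨U, hU, hx, Module.finitePresentation_of_projective _ _⟩
  intro x
  obtain ⟨U, hU, hx, hf, hp⟩ := h x
  exact FlatOverBC.exists_iso_freeMod M hFP x (flat_stalk_of_flat_sections M hU hx)

theorem isFinLocFree_iff (M : X.Modules) [M.IsQuasicoherent] :
    FlatMod.IsFinLocFree M ↔ ∀ U : X.Opens, IsAffineOpen U →
      Module.Finite Γ(X, U) Γ(M, U) ∧ Module.Projective Γ(X, U) Γ(M, U) := by
  refine ⟨fun h U hU => finite_projective_sections M h hU, fun h => isFinLocFree_of_affine M fun x => ?_⟩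
  obtain ⟨_, ⟨U, hU, rfl⟩, hx, -⟩ :=
    X.isBasis_affineOpens.exists_subset_of_mem_open (Set.mem_univ x) isOpen_univ
  exact ⟨U, hU, hx, h U hU⟩

/-- Stalks of a finite locally free module are flat. -/
theorem flat_stalk (M : X.Modules) (h : FlatMod.IsFinLocFree M) (x : X) :
    Module.Flat (X.presheaf.stalk x) (M.presheaf.stalk x) := by
  haveI : M.IsQuasicoherent := TensorMod.isQCoh_of_isFinLocFree h
  obtain ⟨_, ⟨U, hU, rfl⟩, hx, -⟩ :=
    X.isBasis_affineOpens.exists_subset_of_mem_open (Set.mem_univ x) isOpen_univ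
  haveI := (finite_projective_sections M h hU).2
  exact flat_stalk_of_flat_sections M hU hx

end Groth.Agent.FinLocFreeSections
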