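import Groth.Agent.QCohBase.FPSections
import Groth.Agent.QCohBase.FinitePresentation
import Groth.Agent.RelFP.Scheme
import Mathlib.RingTheory.LocalProperties.FinitePresentation
import Mathlib.RingTheory.Finiteness.ModuleFinitePresentation

/-!
# Finitely presented quasi-coherent modules: sections on every affine open
-/

set_option autoImplicit false
set_option backward.isDefEq.respectTransparency.types false

noncomputable section

universe u

open CategoryTheory AlgebraicGeometry Opposite TopologicalSpace
open Groth.Agent.QCohBase Groth.Agent.RelFP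

namespace Groth.Agent.FinLocFreeSections

variable {X : Scheme.{u}} (F : X.Modules) [F.IsQuasicoherent]

/-- A finitely presented module has finitely presented sections on every affine open. -/
theorem finitePresentation_sections (hF : CohB1.IsFP F) {U : X.Opens} (hU : IsAffineOpen U) :
    Module.FinitePresentation Γ(X, U) Γ(F, U) := by
  let s : Set Γ(X, U) :=
    {g | Module.FinitePresentation Γ(X, X.basicOpen g) Γ(F, X.basicOpen g)}
  have hs : Ideal.span s = ⊤ := by
    rw [← hU.self_le_iSup_basicOpen_iff]
    intro x hx
    obtain ⟨W, hxW, hW⟩ := exists_affine_finitePresentation F hF x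
    obtain ⟨g, hle, hxg⟩ := hU.exists_basicOpen_le ⟨x, hxW⟩ hx
    exact Opens.mem_iSup.mpr ⟨⟨g, hW _ (hU.basicOpen g) hle⟩, hxg⟩
  have hle : ∀ g : s, X.basicOpen g.1 ≤ U := fun g ↦ X.basicOpen_le g.1
  letI : ∀ g : s, Algebra Γ(X, U) Γ(X, X.basicOpen g.1) := fun g ↦ (ores (hle g)).toAlgebra
  haveI : ∀ g : s, IsLocalization.Away g.1 Γ(X, X.basicOpen g.1) :=
    fun g ↦ hU.isLocalization_basicOpen g.1
  letI : ∀ g : s, Module Γ(X, U) Γ(F, X.basicOpen g.1) := fun g ↦ resModule F (hle g)
  haveI : ∀ g : s, IsScalarTower Γ(X, U) Γ(X, X.basicOpen g.1) Γ(F, X.basicOpen g.1) := fun g ↦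
    .of_algebraMap_smul fun _ _ ↦ rfl
  haveI : ∀ g : s, IsLocalizedModule (Submonoid.powers g.1) (mresₗ F (hle g)) :=
    fun g ↦ isLocalizedModule_mresₗ F hU g.1 rfl (hle g)
  exact Module.FinitePresentation.of_localizationSpan' (Rₚ := fun g : s => Γ(X, X.basicOpen g.1))
    s hs (fun g => mresₗ F (hle g)) fun g => g.2

/-- Finite presentation over a finite, finitely presented algebra. -/
theorem finitePresentation_iff_of_finite (A B M : Type u) [CommRing A] [CommRing B] [Algebra A B]
    [Module.Finite A B] [Algebra.FinitePresentation A B] [AddCommGroup M] [Module A M] [Module B M]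
    [IsScalarTower A B M] : Module.FinitePresentation B M ↔ Module.FinitePresentation A M := by
  haveI := Module.FinitePresentation.of_finite_of_finitePresentation A B
  refine ⟨fun _ => Module.FinitePresentation.trans A M B, fun h => ?_⟩
  haveI : Module.Finite B M := Module.Finite.of_restrictScalars_finite A B M
  obtain ⟨n, f, hf⟩ := Module.Finite.exists_fin' B M
  refine Module.finitePresentation_of_surjective f hf ?_
  have : (LinearMap.ker f).restrictScalars A = LinearMap.ker (f.restrictScalars A) := rfl
  refine Submodule.FG.of_restrictScalars A ?_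
  rw [this]
  exact Module.FinitePresentation.fg_ker (f.restrictScalars A) hf

end Groth.Agent.FinLocFreeSections
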