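import Groth.Agent.FinLocFreeSections.Basic
import Groth.Agent.QuasiFlatLib.Basic
import Mathlib.RingTheory.LocalRing.Module
import Mathlib.RingTheory.OrzechProperty
import Mathlib.LinearAlgebra.Dimension.Constructions

/-!
# Finite locally free modules via fibre ranks
-/

set_option autoImplicit false
set_option backward.isDefEq.respectTransparency.types false

noncomputable section

universe u

open CategoryTheory AlgebraicGeometry Opposite TopologicalSpace TensorProduct
open Groth.Agent.QCohBase

namespace Groth.Agent.FinLocFreeSections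

variable {X : Scheme.{u}} (M : X.Modules)

/-- The fibre rank at a point. -/
def fibreRank (x : X) : ℕ :=
  Module.finrank (IsLocalRing.ResidueField (X.presheaf.stalk x))
    (IsLocalRing.ResidueField (X.presheaf.stalk x) ⊗[X.presheaf.stalk x] M.presheaf.stalk x)

theorem fibreRank_eq_of_free (x : X) [Module.Free (X.presheaf.stalk x) (M.presheaf.stalk x)] :
    fibreRank M x = Module.finrank (X.presheaf.stalk x) (M.presheaf.stalk x) :=
  Module.finrank_baseChange

/-- The fibre rank of a finite locally free module is locally constant. -/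
theorem isLocallyConstant_fibreRank (h : FlatMod.IsFinLocFree M) :
    IsLocallyConstant (fibreRank M) := by
  haveI : M.IsQuasicoherent := TensorMod.isQCoh_of_isFinLocFree h
  refine (IsLocallyConstant.iff_exists_open _).2 fun x => ?_
  obtain ⟨U₀, n, hx, ⟨t⟩⟩ := h x
  obtain ⟨_, ⟨U, hU, rfl⟩, hxU, hle⟩ := X.isBasis_affineOpens.exists_subset_of_mem_open hx U₀.isOpen
  haveI := free_sections M hU (TensorMod.freeRestrict hle t)
  let b := Module.Free.chooseBasis Γ(X, U) Γ(M, U)
  have key : ∀ y ∈ U, fibreRank M y = Nat.card (Module.Free.ChooseBasisIndex Γ(X, U) Γ(M, U)) := by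
    intro y hy
    letI := FlatOver.germModule M y hy
    letI : Algebra Γ(X, U) (X.presheaf.stalk y) := (X.presheaf.germ U y hy).hom.toAlgebra
    haveI : IsLocalization.AtPrime (X.presheaf.stalk y) (hU.primeIdealOf ⟨y, hy⟩).asIdeal :=
      hU.isLocalization_stalk ⟨y, hy⟩
    haveI : IsScalarTower Γ(X, U) (X.presheaf.stalk y) (M.presheaf.stalk y) :=
      .of_algebraMap_smul fun r z => rfl
    haveI := FlatOver.isLocalizedModule_germₗ M hU y hy
    let b' := b.ofIsLocalizedModule (X.presheaf.stalk y)
      (hU.primeIdealOf ⟨y, hy⟩).asIdeal.primeCompl (FlatOver.germₗ M y hy)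
    haveI : Module.Free (X.presheaf.stalk y) (M.presheaf.stalk y) := Module.Free.of_basis b'
    rw [fibreRank_eq_of_free M y, Module.finrank_eq_nat_card_basis b']
  exact ⟨U, U.isOpen, hxU, fun y hy => (key y hy).trans (key x hxU).symm⟩

variable [M.IsQuasicoherent]

theorem exists_smul_germ {U : X.Opens} (hU : IsAffineOpen U) {y : X} (hy : y ∈ U)
    (z : M.presheaf.stalk y) :
    ∃ (c : X.presheaf.stalk y) (m : Γ(M, U)), z = c • M.presheaf.germ U y hy m := by
  obtain ⟨g, m, hg, hs⟩ := AssPts.exists_germ_smul_eq M hU y hy z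
  obtain ⟨v, hv⟩ := (AssPts.notMem_prime_iff hU y hy g).1 hg
  refine ⟨v⁻¹.1, m, ?_⟩
  rw [← hs, ← hv, ← mul_smul, Units.inv_mul, one_smul]

/-- Generators near a point: as many as the fibre rank. -/
theorem exists_generators (hFT : CohB1.IsFT M) (x : X) {O : X.Opens} (hxO : x ∈ O) :
    ∃ (D : X.Opens) (_ : IsAffineOpen D) (_ : x ∈ D) (_ : D ≤ O)
      (s : Fin (fibreRank M x) → Γ(M, D)), Submodule.span Γ(X, D) (Set.range s) = ⊤ := by
  classical
  obtain ⟨_, ⟨U, hU, rfl⟩, hx, hle⟩ := X.isBasis_affineOpens.exists_subset_of_mem_open hxO O.isOpen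
  haveI : Module.Finite Γ(X, U) Γ(M, U) := finite_sections M hFT hU
  let R := X.presheaf.stalk x
  let k := IsLocalRing.ResidueField R
  haveI : Module.Finite R (M.presheaf.stalk x) :=
    QuasiFlatLib.finite_stalk M ⟨inferInstance, hFT⟩ x
  have hspan : Submodule.span k
      (Set.range fun m : Γ(M, U) => (1 : k) ⊗ₜ[R] M.presheaf.germ U x hx m) = ⊤ := by
    rw [eq_top_iff]
    rintro z -
    induction z with
    | zero => exact zero_mem _
    | add a b ha hb => exact add_mem ha hb
    | tmul a w =>
        obtain ⟨c, m, rfl⟩ := exists_smul_germ M hU hx w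
        rw [← smul_tmul, ← mul_one (c • a), ← smul_eq_mul, ← smul_tmul']
        exact Submodule.smul_mem _ _ (Submodule.subset_span ⟨m, rfl⟩)
  let B := Module.Basis.ofSpan hspan.ge
  have hB : ∀ i, ∃ m : Γ(M, U), (1 : k) ⊗ₜ[R] M.presheaf.germ U x hx m = B i := fun i =>
    (Module.Basis.ofSpan_subset hspan.ge) ⟨i, rfl⟩
  choose sB hsB using hB
  haveI := Module.Finite.finite_basis B
  haveI := Fintype.ofFinite ((linearIndepOn_empty k id).extend (Set.empty_subset
    (Set.range fun m : Γ(M, U) => (1 : k) ⊗ₜ[R] M.presheaf.germ U x hx m)))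
  let e := (Fintype.equivFinOfCardEq (Module.finrank_eq_card_basis B).symm).symm
  let s : Fin (fibreRank M x) → Γ(M, U) := fun j => sB (e j)
  have hgen : Submodule.span R (Set.range fun j => M.presheaf.germ U x hx (s j)) = ⊤ := by
    refine IsLocalRing.span_eq_top_of_tmul_eq_basis _ (B.reindex e.symm) fun j => ?_
    rw [Module.Basis.reindex_apply]
    exact hsB (e j)
  let N : Submodule Γ(X, U) Γ(M, U) := Submodule.span Γ(X, U) (Set.range s)
  letI := FlatOver.germModule M x hx
  letI : Algebra Γ(X, U) R := (X.presheaf.germ U x hx).hom.toAlgebra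
  have hkill : ∀ m : Γ(M, U), ∃ g : Γ(X, U), g ∉ (hU.primeIdealOf ⟨x, hx⟩).asIdeal ∧ g • m ∈ N := by
    intro m
    have hm : M.presheaf.germ U x hx m ∈
        Submodule.span R (Set.range fun j => M.presheaf.germ U x hx (s j)) := hgen ▸ trivial
    suffices ∀ z ∈ Submodule.span R (Set.range fun j => M.presheaf.germ U x hx (s j)),
        ∃ g : Γ(X, U), g ∉ (hU.primeIdealOf ⟨x, hx⟩).asIdeal ∧
          ∃ n ∈ N, X.presheaf.germ U x hx g • z = M.presheaf.germ U x hx n by
      obtain ⟨g, hg, n, hn, heq⟩ := this _ hm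
      rw [← AssPts.germ_smul' M x hx] at heq
      have h0 : M.presheaf.germ U x hx (g • m - n) = 0 := by rw [map_sub, heq, sub_self]
      obtain ⟨g', hg', hgs⟩ := (AssPts.germ_eq_zero_iff M hU x hx _).1 h0
      refine ⟨g' * g, (hU.primeIdealOf ⟨x, hx⟩).asIdeal.primeCompl.mul_mem hg' hg, ?_⟩
      rw [smul_sub, sub_eq_zero] at hgs
      rw [mul_smul, hgs]
      exact N.smul_mem _ hn
    intro z hz
    induction hz using Submodule.span_induction with
    | mem z hz =>
        obtain ⟨j, rfl⟩ := hz
        exact ⟨1, (hU.primeIdealOf ⟨x, hx⟩).asIdeal.primeCompl.one_mem, s j,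
          Submodule.subset_span ⟨j, rfl⟩, by rw [map_one, one_smul]⟩
    | zero => exact ⟨1, (hU.primeIdealOf ⟨x, hx⟩).asIdeal.primeCompl.one_mem, 0, N.zero_mem, by simp⟩
    | add a b _ _ ha hb =>
        obtain ⟨g₁, hg₁, n₁, hn₁, h₁⟩ := ha
        obtain ⟨g₂, hg₂, n₂, hn₂, h₂⟩ := hb
        refine ⟨g₁ * g₂, (hU.primeIdealOf ⟨x, hx⟩).asIdeal.primeCompl.mul_mem hg₁ hg₂,
          g₂ • n₁ + g₁ • n₂, N.add_mem (N.smul_mem _ hn₁) (N.smul_mem _ hn₂), ?_⟩
        rw [map_add, AssPts.germ_smul' M x hx, AssPts.germ_smul' M x hx, ← h₁, ← h₂, map_mul,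
          smul_add, smul_smul, smul_smul, mul_comm (X.presheaf.germ U x hx g₁)]
    | smul c a _ ha =>
        obtain ⟨g₁, hg₁, n₁, hn₁, h₁⟩ := ha
        haveI : IsLocalization.AtPrime R (hU.primeIdealOf ⟨x, hx⟩).asIdeal :=
          hU.isLocalization_stalk ⟨x, hx⟩
        obtain ⟨⟨a', g', hg'⟩, hc⟩ := IsLocalization.surj
          (hU.primeIdealOf ⟨x, hx⟩).asIdeal.primeCompl c
        refine ⟨g' * g₁, (hU.primeIdealOf ⟨x, hx⟩).asIdeal.primeCompl.mul_mem hg' hg₁,
          a' • n₁, N.smul_mem _ hn₁, ?_⟩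
        rw [AssPts.germ_smul' M x hx, ← h₁, map_mul, smul_smul, smul_smul]
        congr 1
        rw [show X.presheaf.germ U x hx a' = c * X.presheaf.germ U x hx g' from hc.symm]
        ring
  obtain ⟨T, hT⟩ := Module.Finite.fg_top (R := Γ(X, U)) (M := Γ(M, U))
  choose g hg hgm using hkill
  let G := ∏ m ∈ T, g m
  have hG : G ∉ (hU.primeIdealOf ⟨x, hx⟩).asIdeal :=
    prod_mem (S := (hU.primeIdealOf ⟨x, hx⟩).asIdeal.primeCompl) fun m _ => hg m
  have hGN : ∀ m, G • m ∈ N := by
    intro m
    have hm : m ∈ Submodule.span Γ(X, U) (T : Set Γ(M, U)) := hT ▸ trivial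
    induction hm using Submodule.span_induction with
    | mem z hz =>
        show (∏ m ∈ T, g m) • z ∈ N
        rw [← Finset.prod_erase_mul T g hz, mul_smul]
        exact N.smul_mem _ (hgm z)
    | zero => rw [smul_zero]; exact N.zero_mem
    | add a b _ _ ha hb => rw [smul_add]; exact N.add_mem ha hb
    | smul c a _ ha => rw [smul_comm]; exact N.smul_mem _ ha
  have hxD : x ∈ X.basicOpen G := by
    rw [X.mem_basicOpen G x hx]
    exact (AssPts.notMem_prime_iff hU x hx G).1 hG
  refine ⟨X.basicOpen G, hU.basicOpen G, hxD, (X.basicOpen_le G).trans hle,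
    fun j => mres M (X.basicOpen_le G) (s j), eq_top_iff.2 fun w _ => ?_⟩
  obtain ⟨k', y, hy⟩ := exists_pow_smul_eq_mres M hU G rfl (X.basicOpen_le G) w
  obtain ⟨v, hv⟩ : IsUnit (ores (X.basicOpen_le G) G) := X.toRingedSpace.isUnit_res_basicOpen G
  have hres : ∀ z ∈ N, mres M (X.basicOpen_le G) z ∈ Submodule.span Γ(X, X.basicOpen G)
      (Set.range fun j => mres M (X.basicOpen_le G) (s j)) := by
    intro z hz
    induction hz using Submodule.span_induction with
    | mem z hz => obtain ⟨j, rfl⟩ := hz; exact Submodule.subset_span ⟨j, rfl⟩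
    | zero => simp
    | add a b _ _ ha hb => rw [map_add]; exact add_mem ha hb
    | smul r a _ ha => rw [mres_smul]; exact Submodule.smul_mem _ _ ha
  have hmem := hres _ (hGN y)
  rw [mres_smul, hy, smul_smul, ← hv, ← Units.val_pow_eq_pow_val, ← Units.val_mul] at hmem
  exact (Submodule.smul_mem_iff_of_isUnit _ (Units.isUnit _)).1 hmem

/-- Criterion: local generators as many as the locally constant rank which are independent. -/
theorem isFinLocFree_of_rank (hFT : CohB1.IsFT M) (hc : IsLocallyConstant (fibreRank M))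
    (hind : ∀ (D : X.Opens), IsAffineOpen D → ∀ (n : ℕ) (s : Fin n → Γ(M, D)),
      Submodule.span Γ(X, D) (Set.range s) = ⊤ → (∀ y ∈ D, fibreRank M y = n) →
      LinearIndependent Γ(X, D) s) :
    FlatMod.IsFinLocFree M := by
  intro x
  obtain ⟨O, hO, hxO, hOc⟩ := hc.exists_open x
  obtain ⟨D, hD, hxD, hDO, s, hs⟩ := exists_generators M hFT x (O := ⟨O, hO⟩) hxO
  exact ⟨D, _, hxD, FlatOverBC.nonempty_iso_freeMod_of_basis M hD
    (Module.Basis.mk (hind D hD _ s hs fun y hy => hOc y (hDO hy)) hs.ge)⟩

theorem span_germ_eq_top {D : X.Opens} (hD : IsAffineOpen D) {n : ℕ} (s : Fin n → Γ(M, D))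
    (hs : Submodule.span Γ(X, D) (Set.range s) = ⊤) {y : X} (hy : y ∈ D) :
    Submodule.span (X.presheaf.stalk y) (Set.range fun j => M.presheaf.germ D y hy (s j)) = ⊤ := by
  rw [eq_top_iff]
  rintro z -
  obtain ⟨c, m, rfl⟩ := exists_smul_germ M hD hy z
  refine Submodule.smul_mem _ c ?_
  have hm : m ∈ Submodule.span Γ(X, D) (Set.range s) := hs ▸ trivial
  induction hm using Submodule.span_induction with
  | mem z hz => obtain ⟨j, rfl⟩ := hz; exact Submodule.subset_span ⟨j, rfl⟩
  | zero => simp
  | add a b _ _ ha hb => rw [map_add]; exact add_mem ha hb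
  | smul r a _ ha => rw [AssPts.germ_smul' M y hy]; exact Submodule.smul_mem _ _ ha

/-- Over a reduced scheme the rank criterion holds. -/
theorem linearIndependent_of_isReduced [IsReduced X] {D : X.Opens} (hD : IsAffineOpen D) {n : ℕ}
    (s : Fin n → Γ(M, D)) (hs : Submodule.span Γ(X, D) (Set.range s) = ⊤)
    (hr : ∀ y ∈ D, fibreRank M y = n) : LinearIndependent Γ(X, D) s := by
  rw [Fintype.linearIndependent_iff]
  intro c hc i
  rw [← basicOpen_eq_bot_iff, ← le_bot_iff]
  intro y hy'
  exfalso
  have hy : y ∈ D := X.basicOpen_le _ hy'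
  let R := X.presheaf.stalk y
  let k := IsLocalRing.ResidueField R
  let v : Fin n → k ⊗[R] M.presheaf.stalk y := fun j => (1 : k) ⊗ₜ M.presheaf.germ D y hy (s j)
  have hv : ⊤ ≤ Submodule.span k (Set.range v) := by
    rintro z -
    induction z with
    | zero => exact zero_mem _
    | add a b ha hb => exact add_mem ha hb
    | tmul a w =>
        have hw : w ∈ Submodule.span R (Set.range fun j => M.presheaf.germ D y hy (s j)) :=
          span_germ_eq_top M hD s hs hy ▸ trivial
        induction hw using Submodule.span_induction generalizing a with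
        | mem w hw =>
            obtain ⟨j, rfl⟩ := hw
            rw [← mul_one a, ← smul_eq_mul, ← smul_tmul']
            exact Submodule.smul_mem _ _ (Submodule.subset_span ⟨j, rfl⟩)
        | zero => simp
        | add p q _ _ hp hq => rw [tmul_add]; exact add_mem (hp a) (hq a)
        | smul r p _ hp => rw [← smul_tmul]; exact hp _
  have hli : LinearIndependent k v := linearIndependent_of_top_le_span_of_card_eq_finrank hv
    (by rw [Fintype.card_fin]; exact (hr y hy).symm)
  have h0 : ∑ j, (IsLocalRing.residue R (X.presheaf.germ D y hy (c j))) • v j = 0 := by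
    have h1 := congrArg (fun m => (1 : k) ⊗ₜ[R] M.presheaf.germ D y hy m) hc
    simp only [map_zero, tmul_zero, map_sum, tmul_sum] at h1
    refine Eq.trans (Finset.sum_congr rfl fun j _ => ?_) h1
    rw [AssPts.germ_smul' M y hy, tmul_smul]
    exact (algebraMap_smul k _ _)
  have h2 : IsLocalRing.residue R (X.presheaf.germ D y hy (c i)) = 0 :=
    Fintype.linearIndependent_iff.1 hli _ h0 i
  exact (IsLocalRing.residue_ne_zero_iff_isUnit _).2 ((X.mem_basicOpen (c i) y hy).1 hy') h2

/-- With free stalks the rank criterion holds. -/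
theorem linearIndependent_of_free {D : X.Opens} (hD : IsAffineOpen D) {n : ℕ}
    (s : Fin n → Γ(M, D)) (hs : Submodule.span Γ(X, D) (Set.range s) = ⊤)
    (hfree : ∀ y : X, Module.Free (X.presheaf.stalk y) (M.presheaf.stalk y))
    (hr : ∀ y ∈ D, fibreRank M y = n) : LinearIndependent Γ(X, D) s := by
  rw [Fintype.linearIndependent_iff]
  classical
  intro c hc i
  refine TopCat.Presheaf.section_ext X.sheaf D (c i) 0 fun y hy => ?_
  rw [map_zero]
  let R := X.presheaf.stalk y
  have hsp := span_germ_eq_top M hD s hs hy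
  haveI := hfree y
  haveI : Module.Finite R (M.presheaf.stalk y) :=
    Module.Finite.of_fg_top ⟨(Finset.univ.image fun j => M.presheaf.germ D y hy (s j)), by simpa using hsp⟩
  have hfr : Module.finrank R (M.presheaf.stalk y) = n := (fibreRank_eq_of_free M y).symm.trans (hr y hy)
  let f : (Fin n → R) →ₗ[R] M.presheaf.stalk y :=
    Fintype.linearCombination R fun j => M.presheaf.germ D y hy (s j)
  have hf : Function.Surjective f := by
    rw [← LinearMap.range_eq_top, Fintype.range_linearCombination]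
    exact hsp
  let eb : M.presheaf.stalk y ≃ₗ[R] (Fin n → R) := (Module.finBasisOfFinrankEq R _ hfr).equivFun
  have hinj : Function.Injective f := by
    have := OrzechProperty.injective_of_surjective_endomorphism (eb.toLinearMap ∘ₗ f)
      (eb.surjective.comp hf)
    exact fun a b h => this (congrArg eb h)
  have h0 : f (fun j => X.presheaf.germ D y hy (c j)) = f 0 := by
    rw [map_zero, Fintype.linearCombination_apply, ← map_zero (M.presheaf.germ D y hy).hom, ← hc]
    rw [map_sum]
    exact Finset.sum_congr rfl fun j _ => (AssPts.germ_smul' M y hy _ _).symm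
  exact congrFun (hinj h0) i

end Groth.Agent.FinLocFreeSections
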